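import Groth.Agent.MultProdLib.Lift
import Groth.Agent.MultUnipLib.Descent
import Groth.Agent.UnipHopfLib.Component

/-!
The subgroup of multiplicative type is a direct factor over a perfect field.
-/

set_option autoImplicit false
set_option maxHeartbeats 1600000

noncomputable section

universe u

open TensorProduct ComodLib WithConv
open Groth.Agent Groth.Agent.MultUnip

namespace MultProdLib

/-- Invariants of a subgroup with unipotent quotient come from the quotient. -/
theorem exists_coinv {k : Type u} [Field k] {A H C : Type u} [CommRing A] [HopfAlgebra k A] [CommRing H]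
    [HopfAlgebra k H] [CommRing C] [HopfAlgebra k C] (q : A →ₐc[k] H) (hq : Function.Surjective q)
    (ψ : C →ₐc[k] A)
    (hle : RingHom.ker (q : A →+* H) ≤ Ideal.map (ψ : C →+* A) (RingHom.ker (Bialgebra.counitAlgHom k C)))
    (a : A) (ha : lamR q a = a ⊗ₜ[k] (1 : H)) : ∃ c, ψ c = a := by
  let J := Ideal.map (ψ : C →+* A) (RingHom.ker (Bialgebra.counitAlgHom k C))
  haveI : J.IsHopfIdeal k := UnipSplit.isHopfIdeal_map ψ
  have hle' : J ≤ SGA3.augIdealSpan k A (ψ : C →ₐ[k] A).range :=
    Ideal.map_le_iff_le_comap.2 fun c hc =>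
    Ideal.subset_span ⟨⟨c, rfl⟩, by
      show CoalgebraStruct.counit (R := k) (ψ c) = 0
      rw [CoalgHomClass.counit_comp_apply]; exact hc⟩
  let r : H →ₐ[k] A ⧸ J :=
    (Ideal.Quotient.liftₐ (RingHom.ker (q : A →ₐ[k] H)) (HopfFF.qmap (k := k) J)
      fun x hx => (HopfFF.qmap_eq_zero (k := k) J).2 (hle hx)).comp
    (Ideal.quotientKerAlgEquivOfSurjective (f := (q : A →ₐ[k] H)) hq).symm.toAlgHom
  have hr : ∀ x, r (q x) = HopfFF.qmap (k := k) J x := fun x => by
    have h1 : (Ideal.quotientKerAlgEquivOfSurjective (f := (q : A →ₐ[k] H)) hq).symm (q x) =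
        Ideal.Quotient.mk _ x := (AlgEquiv.symm_apply_eq _).2 rfl
    refine (congrArg (Ideal.Quotient.liftₐ (RingHom.ker (q : A →ₐ[k] H)) (HopfFF.qmap (k := k) J)
      fun x hx => (HopfFF.qmap_eq_zero (k := k) J).2 (hle hx)) h1).trans ?_
    rfl
  have hmem : a ∈ HopfFF.coinv k J := by
    rw [HopfFF.mem_coinv]
    show _ = a ⊗ₜ[k] (1 : A ⧸ J)
    have h1 := congrArg (LinearMap.lTensor A r.toLinearMap) ha
    rw [LinearMap.lTensor_tmul, show r.toLinearMap (1 : H) = 1 from map_one r, lamR_apply,
      ← LinearMap.lTensor_comp_apply] at h1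
    rw [← h1]
    generalize CoalgebraStruct.comul (R := k) a = z
    induction z using TensorProduct.induction_on with
    | zero => simp
    | add x y hx hy => simp only [map_add, hx, hy]
    | tmul x y => exact congrArg (x ⊗ₜ[k] ·) (hr y).symm
  obtain ⟨c, hc⟩ := HopfFF.coinv_le_of_le_augSpan (HopfFF.isSubHopf_range ψ) hle' hmem
  exact ⟨c, hc⟩

variable {k : Type u} [Field k] [PerfectField k] {A : Type u} [CommRing A] [HopfAlgebra k A]
  [Coalgebra.IsCocomm k A] {H : Type u} [CommRing H] [HopfAlgebra k H]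
  {C : Type u} [CommRing C] [HopfAlgebra k C] {M : Type u} [AddCommGroup M]

/-- There is exactly one homomorphic section of the restriction to the subgroup. -/
theorem existsUnique_section (q : A →ₐc[k] H) (hq : Function.Surjective q) (ψ : C →ₐc[k] A)
    (hψ : Function.Injective ψ)
    (hle : RingHom.ker (q : A →+* H) ≤ Ideal.map (ψ : C →+* A) (RingHom.ker (Bialgebra.counitAlgHom k C)))
    (hK : ∀ c : C, ∃ s, c ∈ UnipHopf.K k C s) (E : TorusField.Split k H M (AlgebraicClosure k)) :
    ∃! r : H →ₐc[k] A, ∀ x, q (r x) = x := by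
  classical
  let L := AlgebraicClosure k
  haveI : IsGalois k L := {}
  haveI := UnipHopf.isCocomm_baseChange (k := k) (A := A) L
  let qL : L ⊗[k] A →ₐc[L] L ⊗[k] H := Bialgebra.TensorProduct.map (BialgHom.id L L) q
  let ψL : L ⊗[k] C →ₐc[L] L ⊗[k] A := Bialgebra.TensorProduct.map (BialgHom.id L L) ψ
  have hqL : Function.Surjective qL := by
    intro z
    induction z using TensorProduct.induction_on with
    | zero => exact ⟨0, map_zero _⟩
    | add x y hx hy =>
      obtain ⟨a, rfl⟩ := hx; obtain ⟨b, rfl⟩ := hy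
      exact ⟨a + b, map_add _ _ _⟩
    | tmul x y =>
      obtain ⟨y, rfl⟩ := hq y
      exact ⟨x ⊗ₜ y, rfl⟩
  have hψL : Function.Injective ψL := by
    have h1 : ⇑ψL = ⇑(LinearMap.lTensor L (ψ : C →ₐ[k] A).toLinearMap) := funext fun z => by
      induction z using TensorProduct.induction_on with
      | zero => simp
      | add x y hx hy => simp only [map_add, hx, hy]
      | tmul x y => rfl
    rw [h1]
    exact Module.Flat.lTensor_preserves_injective_linearMap _ hψ
  have hleL : RingHom.ker (qL : L ⊗[k] A →+* L ⊗[k] H) ≤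
      Ideal.map (ψL : L ⊗[k] C →+* L ⊗[k] A) (RingHom.ker (Bialgebra.counitAlgHom L (L ⊗[k] C))) := by
    intro z hz
    have h1 : z ∈ RingHom.ker (Algebra.TensorProduct.map (AlgHom.id k L) (q : A →ₐ[k] H)) := by
      rw [RingHom.mem_ker] at hz ⊢
      rw [← hz]
      clear hz
      induction z using TensorProduct.induction_on with
      | zero => simp
      | add x y hx hy => simp only [map_add, hx, hy]
      | tmul x y => rfl
    rw [Algebra.TensorProduct.lTensor_ker (A := L) (q : A →ₐ[k] H) hq] at h1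
    refine Ideal.map_le_iff_le_comap.2 (le_trans hle (Ideal.map_le_iff_le_comap.2 fun c hc => ?_)) h1
    have h2 : (1 : L) ⊗ₜ[k] c ∈ RingHom.ker (Bialgebra.counitAlgHom L (L ⊗[k] C)) := by
      rw [RingHom.mem_ker]
      show CoalgebraStruct.counit (R := L) ((1 : L) ⊗ₜ[k] c) = 0
      rw [TensorProduct.counit_tmul, show CoalgebraStruct.counit (R := k) c = 0 from hc, zero_smul]
    exact Ideal.mem_map_of_mem (ψL : L ⊗[k] C →+* L ⊗[k] A) h2
  have huniq : ∀ {g g' : L ⊗[k] A}, IsGroupLikeElem L g → IsGroupLikeElem L g' → qL g = qL g' → g = g' :=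
    fun hg hg' he => groupLike_unique qL ψL hψL (UnipHopf.exhaustive_baseChange hK)
      (fun a ha => exists_coinv qL hqL ψL hleL a ha) hg hg' he
  let β : Module.Basis (Multiplicative M) L (L ⊗[k] H) := E.e.reindex Multiplicative.ofAdd
  have hβ : ∀ m, β m = E.e m.toAdd := fun m => by simp [β]
  have hβgl : ∀ m, IsGroupLikeElem L (β m) := fun m => by rw [hβ]; exact DiagHopf.groupLike_of_isGL (E.gl _)
  have hD : Diag qL β :=
    { one := by rw [hβ]; exact E.e_zero
      mul := fun m n => by rw [hβ, hβ, hβ]; exact E.e_add _ _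
      gl := fun m => (hβgl m).comul_eq_tmul_self
      surj := hqL }
  choose g hg hgq using fun m => exists_groupLike_lift hD m
  have hg1 : g 1 = 1 := huniq (hg 1) IsGroupLikeElem.one (by rw [hgq, map_one qL, hD.one])
  have hgmul : ∀ m n, g (m * n) = g m * g n := fun m n =>
    huniq (hg _) ((hg m).mul (hg n)) (by rw [hgq, map_mul qL, hgq, hgq, hD.mul])
  let ρ : L ⊗[k] H →ₗ[L] L ⊗[k] A := β.constr L g
  have hρ : ∀ m, ρ (β m) = g m := fun m => β.constr_basis L g m
  have hρq : ∀ w, qL (ρ w) = w := fun w => by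
    have h : (qL : L ⊗[k] A →ₐ[L] L ⊗[k] H).toLinearMap ∘ₗ ρ = LinearMap.id := β.ext fun m => by
      show qL (ρ (β m)) = β m
      rw [hρ, hgq]
    exact LinearMap.congr_fun h w
  have hρmul : ∀ x y, ρ (x * y) = ρ x * ρ y := fun x y => by
    have : (LinearMap.mul L (L ⊗[k] H)).compr₂ ρ = (LinearMap.mul L (L ⊗[k] A)).compl₁₂ ρ ρ :=
      β.ext fun m => β.ext fun n => by
        simp only [LinearMap.compr₂_apply, LinearMap.compl₁₂_apply, LinearMap.mul_apply', ← hD.mul, hρ, hgmul]
    exact LinearMap.congr_fun₂ this x y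
  have hρ1 : ρ 1 = 1 := by rw [← hD.one, hρ, hg1]
  have hρε : ∀ w, CoalgebraStruct.counit (R := L) (ρ w) = CoalgebraStruct.counit (R := L) w := fun w => by
    have h : (CoalgebraStruct.counit (R := L)) ∘ₗ ρ = CoalgebraStruct.counit := β.ext fun m => by
      rw [LinearMap.comp_apply, hρ, (hg m).counit_eq_one, (hβgl m).counit_eq_one]
    exact LinearMap.congr_fun h w
  have hρΔ : ∀ w, CoalgebraStruct.comul (R := L) (ρ w) = TensorProduct.map ρ ρ (CoalgebraStruct.comul (R := L) w) :=
    fun w => by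
      have h : (CoalgebraStruct.comul (R := L)) ∘ₗ ρ = TensorProduct.map ρ ρ ∘ₗ CoalgebraStruct.comul :=
        β.ext fun m => by
          rw [LinearMap.comp_apply, LinearMap.comp_apply, hρ, (hg m).comul_eq_tmul_self,
            (hβgl m).comul_eq_tmul_self, TensorProduct.map_tmul, hρ]
      exact LinearMap.congr_fun h w
  -- any two group-like preserving sections agree
  have hρext : ∀ f : L ⊗[k] H →ₗ[L] L ⊗[k] A, (∀ m, IsGroupLikeElem L (f (β m))) → (∀ w, qL (f w) = w) → f = ρ :=
    fun f hf hfq => β.ext fun m => by rw [hρ]; exact huniq (hf m) (hg m) (by rw [hfq, hgq])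
  -- invariance
  let σA : (L ≃ₐ[k] L) → L ⊗[k] A →ₐ[k] L ⊗[k] A := fun σ => Algebra.TensorProduct.map σ.toAlgHom (AlgHom.id k A)
  let σH : (L ≃ₐ[k] L) → L ⊗[k] H →ₐ[k] L ⊗[k] H := fun σ => Algebra.TensorProduct.map σ.toAlgHom (AlgHom.id k H)
  have hρgl : ∀ y, IsGroupLikeElem L y → IsGroupLikeElem L (ρ y) := fun y hy =>
    ⟨by rw [hρε, hy.counit_eq_one], by rw [hρΔ, hy.comul_eq_tmul_self, TensorProduct.map_tmul]⟩
  have hinv : ∀ (σ : L ≃ₐ[k] L) (w : L ⊗[k] H), σA σ (ρ w) = ρ (σH σ w) := by
    intro σ w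
    have hσq : ∀ a, qL (σA σ a) = σH σ (qL a) := fun a => by
      induction a using TensorProduct.induction_on with
      | zero => simp
      | add x y hx hy => simp only [map_add, hx, hy]
      | tmul x y => rfl
    have hs : ∀ (V : Type u) [CommRing V] [Algebra k V] (t : L) (x : L ⊗[k] V),
        Algebra.TensorProduct.map σ.toAlgHom (AlgHom.id k V) (t • x) =
          σ t • Algebra.TensorProduct.map σ.toAlgHom (AlgHom.id k V) x := fun V _ _ t x => by
      induction x using TensorProduct.induction_on with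
      | zero => simp
      | add p r hp hr => simp only [smul_add, map_add, hp, hr]
      | tmul p r => simp [TensorProduct.smul_tmul']
    have hw : w ∈ Submodule.span L (Set.range β) := by rw [β.span_eq]; exact Submodule.mem_top
    induction hw using Submodule.span_induction with
    | mem x hx =>
      obtain ⟨m, rfl⟩ := hx
      rw [hρ]
      refine huniq (map_isGroupLike σ.toAlgHom (hg m)) (hρgl _ (map_isGroupLike σ.toAlgHom (hβgl m))) ?_
      show qL (σA σ (g m)) = qL (ρ (σH σ (β m)))
      rw [hσq, hgq, hρq]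
    | zero => simp
    | add x y _ _ hx hy => simp only [map_add, hx, hy]
    | smul t x _ hx =>
      rw [map_smul ρ, show σA σ (t • ρ x) = _ from hs A t (ρ x), show σH σ (t • x) = _ from hs H t x, map_smul ρ]
      exact congrArg (σ t • ·) hx
  have hfix : ∀ x : H, ∃ a : A, (1 : L) ⊗ₜ[k] a = ρ ((1 : L) ⊗ₜ[k] x) := fun x => exists_of_fixed fun σ => by
    refine (hinv σ _).trans ?_
    simp [σH]
  choose r hr using hfix
  have hι : Function.Injective (Algebra.TensorProduct.includeRight : A →ₐ[k] L ⊗[k] A) :=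
    Algebra.TensorProduct.includeRight_injective (algebraMap k L).injective
  have hιH : Function.Injective (Algebra.TensorProduct.includeRight : H →ₐ[k] L ⊗[k] H) :=
    Algebra.TensorProduct.includeRight_injective (algebraMap k L).injective
  have hR₀ : ∀ x, (Algebra.TensorProduct.includeRight : A →ₐ[k] L ⊗[k] A) (r x) = ρ ((1 : L) ⊗ₜ[k] x) := hr
  let r' : H →ₐ[k] A := AlgHom.ofLinearMap
    { toFun := r
      map_add' := fun x y => hι (by rw [map_add, hR₀, hR₀, hR₀, TensorProduct.tmul_add, map_add])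
      map_smul' := fun t x => hι (by
        rw [RingHom.id_apply, map_smul, hR₀, hR₀, TensorProduct.tmul_smul]
        exact ρ.map_smul_of_tower t _) }
    (hι (by
      show (Algebra.TensorProduct.includeRight : A →ₐ[k] L ⊗[k] A) (r 1) = _
      rw [hR₀, map_one, ← Algebra.TensorProduct.one_def, hρ1]))
    fun x y => hι (by
      show (Algebra.TensorProduct.includeRight : A →ₐ[k] L ⊗[k] A) (r (x * y)) = _
      rw [hR₀, show (1 : L) ⊗ₜ[k] (x * y) = (1 : L) ⊗ₜ[k] x * (1 : L) ⊗ₜ[k] y by
        rw [Algebra.TensorProduct.tmul_mul_tmul, mul_one], hρmul, ← hR₀, ← hR₀, ← map_mul]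
      rfl)
  let rb : H →ₐc[k] A := BialgHom.ofAlgHom r'
    (AlgHom.ext fun a => by
      show CoalgebraStruct.counit (R := k) (r a) = CoalgebraStruct.counit (R := k) a
      apply (algebraMap k L).injective
      have h1 : CoalgebraStruct.counit (R := L) ((1 : L) ⊗ₜ[k] r a) = CoalgebraStruct.counit (R := L) ((1 : L) ⊗ₜ[k] a) := by
        rw [hr, hρε]
      rw [TensorProduct.counit_tmul, TensorProduct.counit_tmul] at h1
      simpa [Algebra.algebraMap_eq_smul_one] using h1)
    (AlgHom.ext fun a => by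
      show Algebra.TensorProduct.map r' r' (CoalgebraStruct.comul (R := k) a) = CoalgebraStruct.comul (R := k) (r a)
      apply incSq_injective (k := k) (L := L)
      rw [← UnipHopf.comul_one_tmul, hr, hρΔ, UnipHopf.comul_one_tmul]
      generalize CoalgebraStruct.comul (R := k) a = z
      induction z using TensorProduct.induction_on with
      | zero => simp
      | add x y hx hy => simp only [map_add, hx, hy]
      | tmul x y =>
        rw [Algebra.TensorProduct.map_tmul, UnipHopf.incSq_tmul, UnipHopf.incSq_tmul, TensorProduct.map_tmul]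
        exact congrArg₂ (· ⊗ₜ[L] ·) (hr x) (hr y))
  have hrq : ∀ x, q (rb x) = x := fun x => hιH (by
    show (1 : L) ⊗ₜ[k] q (r x) = (1 : L) ⊗ₜ[k] x
    rw [show (1 : L) ⊗ₜ[k] q (r x) = qL ((1 : L) ⊗ₜ[k] r x) from rfl, hr, hρq])
  refine ⟨rb, hrq, fun s hs => BialgHom.ext fun x => hι ?_⟩
  let sL : L ⊗[k] H →ₐc[L] L ⊗[k] A := Bialgebra.TensorProduct.map (BialgHom.id L L) s
  have hsq : ∀ w, qL (sL w) = w := fun w => by
    induction w using TensorProduct.induction_on with
    | zero => simp
    | add x y hx hy => simp only [map_add, hx, hy]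
    | tmul x y => exact congrArg (x ⊗ₜ[k] ·) (hs y)
  have h1 := hρext (sL : L ⊗[k] H →ₐ[L] L ⊗[k] A).toLinearMap (fun m => (hβgl m).map sL) hsq
  show (1 : L) ⊗ₜ[k] s x = (1 : L) ⊗ₜ[k] r x
  rw [hr, ← h1]
  rfl

end MultProdLib
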