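import Groth.Agent.GmReprLib.Univ
import Groth.Agent.MultUnipLib.Retract
import Mathlib.FieldTheory.IsAlgClosed.Basic

/-!
Characters of a diagonalisable subgroup of a commutative group extend, uniquely when the quotient is unipotent.
-/

set_option autoImplicit false
set_option maxHeartbeats 1600000

noncomputable section

universe u

open TensorProduct ComodLib WithConv
open Groth.Agent Groth.Agent.MultUnip

namespace MultProdLib

variable {k : Type u} [Field k] {A : Type u} [CommRing A] [HopfAlgebra k A]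
  {H : Type u} [CommRing H] [HopfAlgebra k H]

theorem actR_mul [Coalgebra.IsCocomm k A] (δ δ' : WithConv (A →ₗ[k] k)) (a : A) :
    actR (δ * δ').ofConv a = actR δ.ofConv (actR δ'.ofConv a) := by
  rw [← sub_eq_zero, ← Module.forall_dual_apply_eq_zero_iff k]
  intro l
  have key : ∀ (L : WithConv (A →ₗ[k] k)) (d : WithConv (A →ₗ[k] k)) (x : A),
      L.ofConv (actR d.ofConv x) = (L * d).ofConv x := fun L d x => GmReprLib.apply_actR L d.ofConv x
  show (toConv l).ofConv (_ - _) = 0
  rw [map_sub, key, key, key, mul_assoc, sub_self]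

/-- Over an algebraically closed field a character of a diagonalisable subgroup extends. -/
theorem exists_groupLike_lift [IsAlgClosed k] [Coalgebra.IsCocomm k A] {M : Type u} [CommGroup M]
    {q : A →ₐc[k] H} {β : Module.Basis M k H} (h : Diag q β) (m : M) :
    ∃ g, IsGroupLikeElem k g ∧ q g = β m := by
  classical
  obtain ⟨y, hy⟩ := h.surj (β m)
  set f := prR q β m y with hf
  have hfmem : f ∈ WR q β m := h.prR_mem m y
  have hεf : CoalgebraStruct.counit (R := k) f = 1 := by
    rw [← CoalgHomClass.counit_comp_apply q, hf, h.map_prR, map_smul, h.counit_eq, smul_eq_mul, mul_one]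
    show β.coord m (q y) = 1
    rw [hy]
    simp
  let T : WithConv (A →ₗ[k] k) →ₗ[k] A :=
    { toFun := fun δ => actR δ.ofConv f
      map_add' := fun δ δ' => slice_add _ _ _
      map_smul' := fun c δ => slice_smul c _ _ }
  have hT : ∀ δ, T δ = actR δ.ofConv f := fun δ => rfl
  let I : Ideal (WithConv (A →ₗ[k] k)) :=
    { carrier := {δ | T δ = 0}
      add_mem' := fun {a b} ha hb => by
        show T (a + b) = 0
        rw [map_add, show T a = 0 from ha, show T b = 0 from hb, add_zero]
      zero_mem' := map_zero T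
      smul_mem' := fun c δ hδ => by
        show T (c * δ) = 0
        rw [hT, actR_mul, ← hT δ, show T δ = 0 from hδ, map_zero] }
  have hmemI : ∀ δ, δ ∈ I ↔ T δ = 0 := fun δ => Iff.rfl
  have hT1 : T 1 = f := by
    rw [hT]
    show slice (1 : WithConv (A →ₗ[k] k)).ofConv (CoalgebraStruct.comul (R := k) f) = f
    rw [show (1 : WithConv (A →ₗ[k] k)).ofConv = CoalgebraStruct.counit (R := k) from
      LinearMap.ext fun a => by simp [LinearMap.convOne_def]]
    exact slice_counit (V := A) f
  have hne : I ≠ ⊤ := fun e => by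
    have h1 : T 1 = 0 := (hmemI 1).1 (e ▸ Submodule.mem_top)
    rw [hT1] at h1
    rw [h1, map_zero] at hεf
    exact zero_ne_one hεf
  obtain ⟨𝔪, hm𝔪, hI𝔪⟩ := Ideal.exists_le_maximal I hne
  letI := Ideal.Quotient.field 𝔪
  haveI : Module.Finite k (LinearMap.range T) := by
    obtain ⟨S, hS⟩ := TensorProduct.exists_finset (CoalgebraStruct.comul (R := k) f)
    refine Submodule.finiteDimensional_of_le (S₂ := Submodule.span k ((S.image Prod.fst : Finset A) : Set A)) ?_
    rintro _ ⟨δ, rfl⟩
    show slice δ.ofConv (CoalgebraStruct.comul (R := k) f) ∈ _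
    rw [hS, map_sum]
    exact Submodule.sum_mem _ fun p hp => by
      rw [slice_tmul]
      exact Submodule.smul_mem _ _ (Submodule.subset_span (Finset.mem_image_of_mem _ hp))
  haveI : Module.Finite k (WithConv (A →ₗ[k] k) ⧸ 𝔪) := by
    haveI : Module.Finite k (WithConv (A →ₗ[k] k) ⧸ LinearMap.ker T) :=
      Module.Finite.equiv T.quotKerEquivRange.symm
    have hle : LinearMap.ker T ≤ 𝔪.restrictScalars k := fun δ hδ => hI𝔪 ((hmemI δ).2 hδ)
    exact Module.Finite.of_surjective ((LinearMap.ker T).liftQ (Ideal.Quotient.mkₐ k 𝔪).toLinearMap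
      fun δ hδ => Ideal.Quotient.eq_zero_iff_mem.2 (hle hδ)) fun x => by
        obtain ⟨δ, rfl⟩ := Ideal.Quotient.mkₐ_surjective k 𝔪 x
        exact ⟨Submodule.Quotient.mk δ, rfl⟩
  haveI : Algebra.IsIntegral k (WithConv (A →ₗ[k] k) ⧸ 𝔪) := Algebra.IsIntegral.of_finite k _
  have hbij := IsAlgClosed.algebraMap_bijective_of_isIntegral (k := k) (K := WithConv (A →ₗ[k] k) ⧸ 𝔪)
  let χ : WithConv (A →ₗ[k] k) →ₐ[k] k :=
    ((AlgEquiv.ofBijective (Algebra.ofId k (WithConv (A →ₗ[k] k) ⧸ 𝔪)) hbij).symm.toAlgHom).comp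
      (Ideal.Quotient.mkₐ k 𝔪)
  have hχ : ∀ δ, T δ = 0 → χ δ = 0 := fun δ hδ => by
    show (AlgEquiv.ofBijective (Algebra.ofId k (WithConv (A →ₗ[k] k) ⧸ 𝔪)) hbij).symm (Ideal.Quotient.mk 𝔪 δ) = 0
    rw [Ideal.Quotient.eq_zero_iff_mem.2 (hI𝔪 ((hmemI δ).2 hδ)), map_zero]
  obtain ⟨l, hl⟩ := LinearMap.exists_extend
    (((LinearMap.ker T).liftQ χ.toLinearMap fun δ hδ => hχ δ hδ) ∘ₗ T.quotKerEquivRange.symm.toLinearMap)
  have hlT : ∀ δ, l (T δ) = χ δ := fun δ => by
    have h1 := LinearMap.congr_fun hl ⟨T δ, δ, rfl⟩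
    simp only [LinearMap.comp_apply, Submodule.subtype_apply] at h1
    rw [h1]
    show (LinearMap.ker T).liftQ χ.toLinearMap _ (T.quotKerEquivRange.symm ⟨T δ, _⟩) = χ δ
    rw [LinearMap.quotKerEquivRange_symm_apply_image T δ ⟨δ, rfl⟩]
    rfl
  set g := actL l f with hg
  have hδg : ∀ δ : WithConv (A →ₗ[k] k), δ.ofConv g = χ δ := fun δ => by
    rw [← hlT, hT, hg]
    exact (ComodLib.apply_slice l δ.ofConv _).symm
  have hgl : IsGroupLikeElem k g := by
    refine ⟨?_, ?_⟩
    · have h1 := hδg 1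
      rw [map_one] at h1
      rw [← h1]
      simp [LinearMap.convOne_def]
    · refine ComodLib.ext_slice fun f' => ?_
      rw [slice_tmul, ← sub_eq_zero, ← Module.forall_dual_apply_eq_zero_iff k]
      intro l'
      rw [map_sub, map_smul, show l' = (toConv l').ofConv from rfl]
      show (toConv l').ofConv (actR f' g) - f' g • (toConv l').ofConv g = 0
      rw [GmReprLib.apply_actR, show f' g = χ (toConv f') from hδg (toConv f'), hδg, hδg, map_mul, smul_eq_mul,
        mul_comm, sub_self]
  refine ⟨g, hgl, β.repr.injective (Finsupp.ext fun j => ?_)⟩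
  rw [β.repr_self]
  show β.coord j (q g) = _
  show (toConv (fn q β j)).ofConv g = _
  rw [hδg]
  rcases eq_or_ne m j with rfl | hj
  · rw [Finsupp.single_eq_same]
    have h1 : χ (1 - toConv (fn q β m)) = 0 := hχ _ (by
      rw [map_sub, hT1]
      show f - prR q β m f = 0
      rw [prR_self hfmem, sub_self])
    rw [map_sub, map_one, sub_eq_zero] at h1
    exact h1.symm
  · rw [Finsupp.single_eq_of_ne' hj]
    exact hχ _ (show prR q β j f = 0 by rw [prR_of_mem hfmem, if_neg hj])

variable {C : Type u} [CommRing C] [HopfAlgebra k C]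

/-- Extensions of characters are unique when the quotient is unipotent. -/
theorem groupLike_unique (q : A →ₐc[k] H) (ψ : C →ₐc[k] A) (hψ : Function.Injective ψ)
    (hK : ∀ c : C, ∃ s, c ∈ UnipHopf.K k C s)
    (hcoinv : ∀ a, lamR q a = a ⊗ₜ[k] (1 : H) → ∃ c, ψ c = a)
    {g g' : A} (hg : IsGroupLikeElem k g) (hg' : IsGroupLikeElem k g') (hq : q g = q g') : g = g' := by
  set S := HopfAlgebraStruct.antipode (R := k) g' with hS
  have hprod : IsGroupLikeElem k (g * S) := hg.mul hg'.antipode
  have h2 : g' * S = 1 := hg'.mul_antipode_cancel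
  have h3 : q (g * S) = 1 := by rw [map_mul, hq, ← map_mul, h2, map_one]
  obtain ⟨c, hc⟩ := hcoinv (g * S) (by
    rw [lamR_apply, hprod.comul_eq_tmul_self, LinearMap.lTensor_tmul]
    exact congrArg _ h3)
  have hgl : IsGroupLikeElem k c := by
    refine ⟨?_, ?_⟩
    · rw [← CoalgHomClass.counit_comp_apply ψ, hc]; exact hprod.counit_eq_one
    · have hi : Function.Injective (TensorProduct.map (ψ : C →ₗ[k] A) (ψ : C →ₗ[k] A)) :=
        TensorProduct.map_injective_of_flat_flat' _ _ hψ hψ
      apply hi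
      rw [CoalgHomClass.map_comp_comul_apply ψ, TensorProduct.map_tmul]
      show CoalgebraStruct.comul (R := k) (ψ c) = ψ c ⊗ₜ[k] ψ c
      rw [hc]
      exact hprod.comul_eq_tmul_self
  rw [eq_one_of_groupLike hgl hK, map_one] at hc
  calc g = g * (g' * S) := by rw [h2, mul_one]
    _ = g * S * g' := by ring
    _ = g' := by rw [← hc, one_mul]

end MultProdLib
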