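import Groth.Agent.MultProdLib.Section

/-!
The product decomposition attached to a section.
-/

set_option autoImplicit false
set_option maxHeartbeats 1600000

noncomputable section

universe u

open TensorProduct WithConv
open Groth.Agent Groth.Agent.MultUnip

namespace MultProdLib

variable {k : Type u} [Field k] {A : Type u} [CommRing A] [HopfAlgebra k A] [Coalgebra.IsCocomm k A]
  {H : Type u} [CommRing H] [HopfAlgebra k H]

/-- The comorphism of multiplication from a subgroup and a closed subscheme. -/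
def phi (q : A →ₐc[k] H) (I : Ideal A) : A →ₐ[k] H ⊗[k] (A ⧸ I) :=
  (Algebra.TensorProduct.map (q : A →ₐ[k] H) (Ideal.Quotient.mkₐ k I)).comp (Bialgebra.comulAlgHom k A)

theorem phi_eq (q : A →ₐc[k] H) (I : Ideal A) :
    toConv (phi q I) = toConv ((Algebra.TensorProduct.includeLeft : H →ₐ[k] H ⊗[k] (A ⧸ I)).comp (q : A →ₐ[k] H)) *
      toConv ((Algebra.TensorProduct.includeRight : A ⧸ I →ₐ[k] H ⊗[k] (A ⧸ I)).comp (Ideal.Quotient.mkₐ k I)) := by
  apply WithConv.ext
  refine AlgHom.ext fun a => ?_
  show Algebra.TensorProduct.map (q : A →ₐ[k] H) (Ideal.Quotient.mkₐ k I) (CoalgebraStruct.comul (R := k) a) =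
    (toConv ((Algebra.TensorProduct.includeLeft : H →ₐ[k] H ⊗[k] (A ⧸ I)).comp (q : A →ₐ[k] H)) *
      toConv ((Algebra.TensorProduct.includeRight : A ⧸ I →ₐ[k] H ⊗[k] (A ⧸ I)).comp (Ideal.Quotient.mkₐ k I))) a
  rw [AlgHom.convMul_apply]
  generalize CoalgebraStruct.comul (R := k) a = z
  induction z using TensorProduct.induction_on with
  | zero => simp
  | add x y hx hy => simp only [map_add, hx, hy]
  | tmul x y => simp

variable (q : A →ₐc[k] H) (r : H →ₐc[k] A) (hr : ∀ x, q (r x) = x)

/-- The ideal of the complement of a section. -/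
abbrev compl : Ideal A := Ideal.map (r : H →+* A) (RingHom.ker (Bialgebra.counitAlgHom k H))

/-- The projection to the complement. -/
def sig : A →ₐ[k] A :=
  (toConv (AlgHom.id k A) * (toConv ((r : H →ₐ[k] A).comp (q : A →ₐ[k] H)))⁻¹).ofConv

include hr in
theorem sig_section (x : H) : sig q r (r x) = algebraMap k A (CoalgebraStruct.counit (R := k) x) := by
  have h1 := AlgHom.convMul_comp_bialgHom_distrib (toConv (AlgHom.id k A))
    (toConv ((r : H →ₐ[k] A).comp (q : A →ₐ[k] H)))⁻¹ r
  have h2 : (sig q r).comp (r : H →ₐ[k] A) = (Algebra.ofId k A).comp (Bialgebra.counitAlgHom k H) := by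
    refine h1.trans ?_
    show (toConv ((AlgHom.id k A).comp (r : H →ₐ[k] A)) *
      toConv ((((r : H →ₐ[k] A).comp (q : A →ₐ[k] H)).comp (HopfAlgebra.antipodeAlgHom k A)).comp (r : H →ₐ[k] A))).ofConv = _
    have h3 : (((r : H →ₐ[k] A).comp (q : A →ₐ[k] H)).comp (HopfAlgebra.antipodeAlgHom k A)).comp (r : H →ₐ[k] A) =
        (r : H →ₐ[k] A).comp (HopfAlgebra.antipodeAlgHom k H) := AlgHom.ext fun y => by
      show r (q (HopfAlgebraStruct.antipode (R := k) (r y))) = r (HopfAlgebraStruct.antipode (R := k) y)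
      rw [← HopfFF.map_antipode r y, hr]
    rw [h3, AlgHom.id_comp]
    exact congrArg WithConv.ofConv (mul_inv_cancel (toConv (r : H →ₐ[k] A)))
  exact AlgHom.congr_fun h2 x

include hr in
theorem sig_eq_zero {a : A} (ha : a ∈ compl r) : sig q r a = 0 := by
  refine (Ideal.map_le_iff_le_comap.2 (fun x hx => ?_) ha : a ∈ RingHom.ker (sig q r))
  show sig q r (r x) = 0
  rw [sig_section q r hr, show CoalgebraStruct.counit (R := k) x = 0 from hx, map_zero]

theorem mk_section (x : H) : Ideal.Quotient.mkₐ k (compl r) (r x) = algebraMap k _ (CoalgebraStruct.counit (R := k) x) := by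
  show Ideal.Quotient.mk _ (r x) = _
  rw [← Ideal.Quotient.mk_algebraMap, Ideal.Quotient.eq, ← AlgHomClass.commutes r, ← map_sub]
  exact Ideal.mem_map_of_mem (r : H →+* A) (RingHom.mem_ker.2 (by simp))

include hr in
theorem phi_section (x : H) : phi q (compl r) (r x) = x ⊗ₜ[k] 1 := by
  show Algebra.TensorProduct.map (q : A →ₐ[k] H) (Ideal.Quotient.mkₐ k (compl r)) (CoalgebraStruct.comul (R := k) (r x)) = _
  rw [← CoalgHomClass.map_comp_comul_apply r]
  have key : ∀ z : H ⊗[k] H, Algebra.TensorProduct.map (q : A →ₐ[k] H) (Ideal.Quotient.mkₐ k (compl r))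
      (TensorProduct.map (r : H →ₗ[k] A) (r : H →ₗ[k] A) z) =
      ComodLib.slice (CoalgebraStruct.counit (R := k)) z ⊗ₜ[k] 1 := fun z => by
    induction z using TensorProduct.induction_on with
    | zero => simp
    | add a b ha hb => simp only [map_add, TensorProduct.add_tmul, ha, hb]
    | tmul a b =>
      show q (r a) ⊗ₜ[k] Ideal.Quotient.mkₐ k (compl r) (r b) = _
      rw [hr, mk_section, ComodLib.slice_tmul, TensorProduct.smul_tmul, Algebra.algebraMap_eq_smul_one]
  rw [key]
  exact congrArg (· ⊗ₜ[k] (1 : A ⧸ compl r)) (ComodLib.slice_counit (V := H) x)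

include hr in
/-- A section gives a product decomposition. -/
theorem phi_bijective : Function.Bijective (phi q (compl r)) := by
  let iH : H →ₐ[k] H ⊗[k] (A ⧸ compl r) := Algebra.TensorProduct.includeLeft
  let iI : A ⧸ compl r →ₐ[k] H ⊗[k] (A ⧸ compl r) := Algebra.TensorProduct.includeRight
  let σ : A ⧸ compl r →ₐ[k] A := Ideal.Quotient.liftₐ (compl r) (sig q r) fun a ha => sig_eq_zero q r hr ha
  let Ψ : H ⊗[k] (A ⧸ compl r) →ₐ[k] A :=
    Algebra.TensorProduct.lift (r : H →ₐ[k] A) σ fun _ _ => Commute.all _ _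
  have h1 : Ψ.comp (phi q (compl r)) = AlgHom.id k A := by
    have h := AlgHom.comp_convMul_distrib Ψ (toConv (iH.comp (q : A →ₐ[k] H)))
      (toConv (iI.comp (Ideal.Quotient.mkₐ k (compl r))))
    rw [← phi_eq] at h
    refine h.trans ?_
    have e1 : Ψ.comp (iH.comp (q : A →ₐ[k] H)) = (r : H →ₐ[k] A).comp (q : A →ₐ[k] H) :=
      AlgHom.ext fun a => by simp [Ψ, iH]
    have e2 : Ψ.comp (iI.comp (Ideal.Quotient.mkₐ k (compl r))) = sig q r :=
      AlgHom.ext fun a => by simp [Ψ, iI]; rfl
    show (toConv (Ψ.comp (iH.comp (q : A →ₐ[k] H))) *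
      toConv (Ψ.comp (iI.comp (Ideal.Quotient.mkₐ k (compl r))))).ofConv = _
    rw [e1, e2, sig, toConv_ofConv, mul_left_comm, mul_inv_cancel, mul_one]
  have h2 : (phi q (compl r)).comp Ψ = AlgHom.id k _ := by
    refine Algebra.TensorProduct.ext (AlgHom.ext fun x => ?_) (AlgHom.ext fun b => ?_)
    · show phi q (compl r) (Ψ (x ⊗ₜ[k] 1)) = x ⊗ₜ[k] 1
      rw [show Ψ (x ⊗ₜ[k] 1) = r x by simp [Ψ], phi_section q r hr]
    · obtain ⟨a, rfl⟩ := Ideal.Quotient.mkₐ_surjective k (compl r) b
      show phi q (compl r) (Ψ (1 ⊗ₜ[k] Ideal.Quotient.mkₐ k (compl r) a)) = iI (Ideal.Quotient.mkₐ k (compl r) a)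
      rw [show Ψ (1 ⊗ₜ[k] Ideal.Quotient.mkₐ k (compl r) a) = sig q r a by simp [Ψ]; rfl]
      have h := AlgHom.comp_convMul_distrib (phi q (compl r)) (toConv (AlgHom.id k A))
        (toConv ((r : H →ₐ[k] A).comp (q : A →ₐ[k] H)))⁻¹
      have h3 : (phi q (compl r)).comp (((r : H →ₐ[k] A).comp (q : A →ₐ[k] H)).comp (HopfAlgebra.antipodeAlgHom k A)) =
          (iH.comp (q : A →ₐ[k] H)).comp (HopfAlgebra.antipodeAlgHom k A) :=
        AlgHom.ext fun y => phi_section q r hr _
      have h4 : (phi q (compl r)).comp (sig q r) = iI.comp (Ideal.Quotient.mkₐ k (compl r)) := by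
        refine h.trans ?_
        show (toConv ((phi q (compl r)).comp (AlgHom.id k A)) * toConv ((phi q (compl r)).comp
          (((r : H →ₐ[k] A).comp (q : A →ₐ[k] H)).comp (HopfAlgebra.antipodeAlgHom k A)))).ofConv = _
        rw [h3, AlgHom.comp_id, phi_eq]
        rw [mul_comm (toConv (iH.comp (q : A →ₐ[k] H))), mul_assoc, mul_comm (toConv (iH.comp (q : A →ₐ[k] H))),
          HopfFF.conv_comp_antipode_mul]
        exact congrArg WithConv.ofConv (mul_one (toConv (iI.comp (Ideal.Quotient.mkₐ k (compl r)))))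
      exact AlgHom.congr_fun h4 a
  exact ⟨Function.LeftInverse.injective (g := Ψ) fun a => AlgHom.congr_fun h1 a,
    Function.RightInverse.surjective (g := Ψ) fun z => AlgHom.congr_fun h2 z⟩

include hr in
/-- The projection lands in the invariants of the subgroup. -/
theorem lamR_sig (a : A) : lamR q (sig q r a) = sig q r a ⊗ₜ[k] (1 : H) := by
  let iA : A →ₐ[k] A ⊗[k] H := Algebra.TensorProduct.includeLeft
  let jH : H →ₐ[k] A ⊗[k] H := Algebra.TensorProduct.includeRight
  let rq : A →ₐc[k] A := r.comp q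
  have hlam : toConv (lamR q) = toConv iA * toConv (jH.comp (q : A →ₐ[k] H)) := by
    apply WithConv.ext
    refine AlgHom.ext fun y => ?_
    show Algebra.TensorProduct.map (AlgHom.id k A) (q : A →ₐ[k] H) (CoalgebraStruct.comul (R := k) y) =
      (toConv iA * toConv (jH.comp (q : A →ₐ[k] H))) y
    rw [AlgHom.convMul_apply]
    generalize CoalgebraStruct.comul (R := k) y = z
    induction z using TensorProduct.induction_on with
    | zero => simp
    | add u v hu hv => simp only [map_add, hu, hv]
    | tmul u v => simp [iA, jH]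
  have hlamrq : toConv ((lamR q).comp (rq : A →ₐ[k] A)) =
      toConv (iA.comp (rq : A →ₐ[k] A)) * toConv (jH.comp (q : A →ₐ[k] H)) := by
    have h := AlgHom.convMul_comp_bialgHom_distrib (toConv iA) (toConv (jH.comp (q : A →ₐ[k] H))) rq
    rw [← hlam] at h
    refine (congrArg toConv h).trans ?_
    rw [toConv_ofConv]
    refine congrArg (fun f => toConv (iA.comp (rq : A →ₐ[k] A)) * toConv f) (AlgHom.ext fun y => ?_)
    show jH (q (r (q y))) = jH (q y)
    rw [hr]
  have h0 := AlgHom.comp_convMul_distrib (lamR q) (toConv (AlgHom.id k A))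
    (toConv ((r : H →ₐ[k] A).comp (q : A →ₐ[k] H)))⁻¹
  have h1 : (lamR q).comp (sig q r) = iA.comp (sig q r) := by
    refine h0.trans ?_
    rw [show iA.comp (sig q r) = _ from AlgHom.comp_convMul_distrib iA (toConv (AlgHom.id k A))
      (toConv ((r : H →ₐ[k] A).comp (q : A →ₐ[k] H)))⁻¹]
    show (toConv ((lamR q).comp (AlgHom.id k A)) * (toConv ((lamR q).comp (rq : A →ₐ[k] A)))⁻¹).ofConv =
      (toConv (iA.comp (AlgHom.id k A)) * (toConv (iA.comp (rq : A →ₐ[k] A)))⁻¹).ofConv
    have key : ∀ x y z z' w : WithConv (A →ₐ[k] A ⊗[k] H), z' * z = 1 → w * (z * y) = 1 → x * y * w = x * z' := by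
      intro x y z z' w h h'
      calc x * y * w = x * (z' * z) * y * w := by rw [h, mul_one]
        _ = x * z' * (w * (z * y)) := by ac_rfl
        _ = x * z' := by rw [h', mul_one]
    have hw := HopfFF.conv_comp_antipode_mul ((lamR q).comp (rq : A →ₐ[k] A))
    rw [hlamrq] at hw
    rw [AlgHom.comp_id, AlgHom.comp_id, hlam]
    exact congrArg WithConv.ofConv
      (key _ _ _ _ _ (HopfFF.conv_comp_antipode_mul (iA.comp (rq : A →ₐ[k] A))) hw)
  exact AlgHom.congr_fun h1 a

/-- A product decomposition comes from a section. -/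
theorem exists_section_of_bijective (I : Ideal A) [I.IsHopfIdeal k] (hb : Function.Bijective (phi q I)) :
    ∃ r : H →ₐc[k] A, (∀ x, q (r x) = x) ∧ I = compl r := by
  classical
  let π := Bialgebra.Quotient.mkBialgHom (R := k) I
  let Φ : A →ₐc[k] H ⊗[k] (A ⧸ I) := (Bialgebra.TensorProduct.map q π).comp (Bialgebra.comulBialgHom k A)
  have hΦ : ∀ a, Φ a = phi q I a := fun a => by
    show Bialgebra.TensorProduct.map q π (CoalgebraStruct.comul (R := k) a) =
      Algebra.TensorProduct.map (q : A →ₐ[k] H) (Ideal.Quotient.mkₐ k I) (CoalgebraStruct.comul (R := k) a)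
    generalize CoalgebraStruct.comul (R := k) a = z
    induction z using TensorProduct.induction_on with
    | zero => simp
    | add u v hu hv => simp only [map_add, hu, hv]
    | tmul u v => rfl
  let Φe : A ≃ₐ[k] H ⊗[k] (A ⧸ I) := AlgEquiv.ofBijective (phi q I) hb
  have hsymm : ∀ z, Φ (Φe.symm z) = z := fun z => (hΦ _).trans (Φe.apply_symm_apply z)
  have hΦinj : Function.Injective Φ := fun x y h => hb.1 (by rwa [← hΦ, ← hΦ])
  let iH : H →ₐ[k] H ⊗[k] (A ⧸ I) := Algebra.TensorProduct.includeLeft
  let r' : H →ₐ[k] A := Φe.symm.toAlgHom.comp iH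
  have hΦr : ∀ x, Φ (r' x) = x ⊗ₜ[k] 1 := fun x => hsymm _
  let r : H →ₐc[k] A := BialgHom.ofAlgHom r'
    (AlgHom.ext fun x => by
      show CoalgebraStruct.counit (R := k) (r' x) = CoalgebraStruct.counit (R := k) x
      rw [← CoalgHomClass.counit_comp_apply Φ, hΦr, TensorProduct.counit_tmul, Bialgebra.counit_one, one_smul])
    (AlgHom.ext fun x => by
      show Algebra.TensorProduct.map r' r' (CoalgebraStruct.comul (R := k) x) = CoalgebraStruct.comul (R := k) (r' x)
      apply TensorProduct.map_injective_of_flat_flat' (Φ : A →ₗ[k] H ⊗[k] (A ⧸ I)) (Φ : A →ₗ[k] H ⊗[k] (A ⧸ I))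
        (show Function.Injective ⇑Φ from hΦinj) (show Function.Injective ⇑Φ from hΦinj)
      rw [CoalgHomClass.map_comp_comul_apply Φ, hΦr, TensorProduct.comul_tmul, Bialgebra.comul_one]
      generalize CoalgebraStruct.comul (R := k) x = z
      induction z using TensorProduct.induction_on with
      | zero => simp
      | add u v hu hv => simp only [map_add, TensorProduct.add_tmul, hu, hv]
      | tmul u v =>
        rw [Algebra.TensorProduct.map_tmul, TensorProduct.map_tmul]
        refine (congrArg₂ (· ⊗ₜ[k] ·) (hΦr u) (hΦr v)).trans ?_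
        rw [Algebra.TensorProduct.one_def]
        rfl)
  have hrΦ : ∀ x, phi q I (r x) = x ⊗ₜ[k] 1 := fun x => (hΦ _).symm.trans (hΦr x)
  have hπ : ∀ a, TensorProduct.lid k (A ⧸ I)
      (LinearMap.rTensor (A ⧸ I) (CoalgebraStruct.counit (R := k)) (phi q I a)) = Ideal.Quotient.mkₐ k I a := fun a => by
    have key : ∀ z : A ⊗[k] A, TensorProduct.lid k (A ⧸ I) (LinearMap.rTensor (A ⧸ I) (CoalgebraStruct.counit (R := k))
        (Algebra.TensorProduct.map (q : A →ₐ[k] H) (Ideal.Quotient.mkₐ k I) z)) =
        Ideal.Quotient.mkₐ k I (TensorProduct.lid k A (LinearMap.rTensor A (CoalgebraStruct.counit (R := k)) z)) :=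
      fun z => by
        induction z using TensorProduct.induction_on with
        | zero => simp
        | add u v hu hv => simp only [map_add, hu, hv]
        | tmul u v =>
          show CoalgebraStruct.counit (R := k) (q u) • Ideal.Quotient.mkₐ k I v =
            Ideal.Quotient.mkₐ k I (CoalgebraStruct.counit (R := k) u • v)
          rw [map_smul, CoalgHomClass.counit_comp_apply]
    refine (key _).trans ?_
    show Ideal.Quotient.mkₐ k I (TensorProduct.lid k A (LinearMap.rTensor A (CoalgebraStruct.counit (R := k))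
      (CoalgebraStruct.comul (R := k) a))) = Ideal.Quotient.mkₐ k I a
    rw [Coalgebra.rTensor_counit_comul, TensorProduct.lid_tmul, one_smul]
  refine ⟨r, fun x => ?_, le_antisymm (fun a ha => ?_) ?_⟩
  · have hq : ∀ a, TensorProduct.rid k H
        (LinearMap.lTensor H (CoalgebraStruct.counit (R := k)) (phi q I a)) = q a := fun a => by
      have key : ∀ z : A ⊗[k] A, TensorProduct.rid k H (LinearMap.lTensor H (CoalgebraStruct.counit (R := k))
          (Algebra.TensorProduct.map (q : A →ₐ[k] H) (Ideal.Quotient.mkₐ k I) z)) =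
          q (TensorProduct.rid k A (LinearMap.lTensor A (CoalgebraStruct.counit (R := k)) z)) := fun z => by
        induction z using TensorProduct.induction_on with
        | zero => simp
        | add u v hu hv => simp only [map_add, hu, hv]
        | tmul u v =>
          show CoalgebraStruct.counit (R := k) (π v) • q u = q (CoalgebraStruct.counit (R := k) v • u)
          rw [map_smul, CoalgHomClass.counit_comp_apply]
      refine (key _).trans ?_
      show q (TensorProduct.rid k A (LinearMap.lTensor A (CoalgebraStruct.counit (R := k))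
        (CoalgebraStruct.comul (R := k) a))) = q a
      rw [Coalgebra.lTensor_counit_comul, TensorProduct.rid_tmul, one_smul]
    rw [← hq, hrΦ, LinearMap.lTensor_tmul, TensorProduct.rid_tmul, Bialgebra.counit_one, one_smul]
  · let s : A ⧸ I → A := fun b => Φe.symm ((1 : H) ⊗ₜ[k] b)
    have hmod : ∀ z, Φe.symm z - s (TensorProduct.lid k (A ⧸ I)
        (LinearMap.rTensor (A ⧸ I) (CoalgebraStruct.counit (R := k)) z)) ∈ compl r := by
      intro z
      induction z using TensorProduct.induction_on with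
      | zero => simp [s]
      | add u v hu hv =>
        simp only [s, map_add, TensorProduct.tmul_add] at hu hv ⊢
        rw [add_sub_add_comm]
        exact add_mem hu hv
      | tmul x b =>
        have hz : x ⊗ₜ[k] b - (1 : H) ⊗ₜ[k] (CoalgebraStruct.counit (R := k) x • b) =
            (x - algebraMap k H (CoalgebraStruct.counit (R := k) x)) ⊗ₜ[k] 1 * (1 : H) ⊗ₜ[k] b := by
          rw [Algebra.TensorProduct.tmul_mul_tmul, mul_one, one_mul, TensorProduct.sub_tmul, TensorProduct.tmul_smul,
            Algebra.algebraMap_eq_smul_one, TensorProduct.smul_tmul']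
        simp only [s, LinearMap.rTensor_tmul, TensorProduct.lid_tmul]
        rw [← map_sub, hz, map_mul]
        refine Ideal.mul_mem_right _ _ ?_
        exact Ideal.mem_map_of_mem (r : H →+* A) (RingHom.mem_ker.2 (by simp))
    have h := hmod (phi q I a)
    rw [hπ, show Ideal.Quotient.mkₐ k I a = 0 from Ideal.Quotient.eq_zero_iff_mem.2 ha,
      show Φe.symm (phi q I a) = a from Φe.symm_apply_apply a] at h
    simpa [s] using h
  · refine Ideal.map_le_iff_le_comap.2 fun x hx => show r x ∈ I from Ideal.Quotient.eq_zero_iff_mem.1 ?_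
    show Ideal.Quotient.mkₐ k I (r x) = 0
    rw [← hπ, hrΦ, LinearMap.rTensor_tmul, show CoalgebraStruct.counit (R := k) x = 0 from hx,
      TensorProduct.lid_tmul, zero_smul]

end MultProdLib
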